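import Cfsg.Agent.Lib.Helper14.AltFP.Defs

set_option autoImplicit false

namespace Cfsg.Agent.Lib.Helper14.AltFPLeaf

open Equiv Equiv.Perm Cfsg.Agent.Lib.Helper14.AltFP

theorem orderOf_conj_eq {G : Type*} [Group G] (t x : G) : orderOf (t * x * t⁻¹) = orderOf x := by
  have h : SemiconjBy t x (t * x * t⁻¹) := by
    unfold SemiconjBy; group
  exact (h.orderOf_eq t).symm

/-- solvability of a closure is invariant under conjugation -/
theorem isSolvable_closure_conj {G : Type*} [Group G] (t : G) (S : Set G)
    (h : Group.IsSolvable (Subgroup.closure ((fun x => t * x * t⁻¹) '' S))) :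
    Group.IsSolvable (Subgroup.closure S) := by
  have hmap : (Subgroup.closure S).map (MulAut.conj t).toMonoidHom =
      Subgroup.closure ((fun x => t * x * t⁻¹) '' S) := by
    rw [MonoidHom.map_closure]
    rfl
  -- the restriction of conj t to closure S, into the closure of the image
  let f : Subgroup.closure S →* Subgroup.closure ((fun x => t * x * t⁻¹) '' S) :=
    { toFun := fun x => ⟨t * x.1 * t⁻¹, by
        rw [← hmap]; exact ⟨x.1, x.2, rfl⟩⟩
      map_one' := by ext; simp
      map_mul' := by intro x y; ext; simp }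
  have hf : Function.Injective f := by
    intro x y hxy
    have := congrArg Subtype.val hxy
    simp only [f, MonoidHom.coe_mk, OneHom.coe_mk] at this
    ext
    exact mul_left_cancel (mul_right_cancel this)
  exact Group.isSolvable_of_isSolvable_injective hf

/-- (G1) simultaneous conjugation -/
theorem good_conj {p : ℕ} {α : Type*} [Fintype α] [DecidableEq α] {U W : Perm α} (t : Perm α)
    (h : Good p U W) : Good p (t * U * t⁻¹) (t * W * t⁻¹) := by
  obtain ⟨h1, h2⟩ := h
  refine ⟨?_, ?_⟩
  · have e : t * U * t⁻¹ * (t * W * t⁻¹) = t * (U * W) * t⁻¹ := by group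
    rw [e, orderOf_conj_eq]
    exact h1
  · intro hs
    apply h2
    apply isSolvable_closure_conj t
    have e : (fun x => t * x * t⁻¹) '' ({U, W} : Set (Perm α)) = {t * U * t⁻¹, t * W * t⁻¹} := by
      rw [Set.image_pair]
    rw [e]
    exact hs

/-- (G2) symmetry -/
theorem good_symm {p : ℕ} {α : Type*} [Fintype α] [DecidableEq α] {U W : Perm α}
    (h : Good p U W) : Good p W U := by
  obtain ⟨h1, h2⟩ := h
  refine ⟨?_, ?_⟩
  · have e : W * U = U⁻¹ * (U * W) * U⁻¹⁻¹ := by group
    rw [e, orderOf_conj_eq]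
    exact h1
  · rw [Set.pair_comm]
    exact h2

/-- (G3) a permutation with a 2-cycle does not have odd prime power order -/
theorem not_ppow_of_two_cycle {p : ℕ} (hp : p.Prime) (hp2 : p ≠ 2) {α : Type*} [Fintype α] [DecidableEq α]
    (x : Perm α) (P : α) (h1 : x P ≠ P) (h2 : x (x P) = P) : ¬ ∃ k : ℕ, orderOf x = p ^ k := by
  rintro ⟨k, hk⟩
  have hodd : Odd (orderOf x) := by rw [hk]; exact (hp.odd_of_ne_two hp2).pow
  obtain ⟨m, hm⟩ := hodd
  -- x^2 fixes P, hence every power of x^2 fixes P
  have hsq : (x ^ 2) P = P := by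
    rw [pow_two, Perm.mul_apply]; exact h2
  have hpow : ∀ j : ℕ, ((x ^ 2) ^ j) P = P := by
    intro j
    induction j with
    | zero => simp
    | succ j ih => rw [pow_succ, Perm.mul_apply, hsq, ih]
  have hx : x = (x ^ 2) ^ (m + 1) := by
    rw [← pow_mul]
    have : 2 * (m + 1) = orderOf x + 1 := by omega
    rw [this, pow_succ, pow_orderOf_eq_one, one_mul]
  apply h1
  conv_lhs => rw [hx]
  exact hpow (m + 1)

end Cfsg.Agent.Lib.Helper14.AltFPLeaf
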