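import Cfsg.Agent.Lib.Helper14.AltFP.Defs

/-! # S2276: small API for `finRotate b` and the points `pt i h` -/

set_option autoImplicit false

namespace Cfsg.Agent.Lib.Helper14.AltFP

open Equiv Equiv.Perm

theorem finRotate_val (b : ℕ) (i : Fin b) (h : i.val + 1 < b) : (finRotate b i).val = i.val + 1 := by
  obtain ⟨b', rfl⟩ : ∃ b', b = b' + 1 := ⟨b - 1, by omega⟩
  rw [coe_finRotate]
  rw [if_neg]
  intro hl
  rw [hl] at h
  simp at h

theorem finRotate_val_last (b : ℕ) (i : Fin b) (h : i.val + 1 = b) : (finRotate b i).val = 0 := by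
  obtain ⟨b', rfl⟩ : ∃ b', b = b' + 1 := ⟨b - 1, by omega⟩
  rw [coe_finRotate]
  rw [if_pos]
  apply Fin.ext
  simp only [Fin.val_last]
  omega

/-- `finRotate b i = i + 1 mod b` -/
theorem finRotate_val_mod (b : ℕ) (i : Fin b) : (finRotate b i).val = (i.val + 1) % b := by
  have hi := i.isLt
  rcases Nat.lt_or_ge (i.val + 1) b with h | h
  · rw [finRotate_val b i h, Nat.mod_eq_of_lt h]
  · have h' : i.val + 1 = b := by omega
    rw [finRotate_val_last b i h', h', Nat.mod_self]

/-- `(finRotate b ^ k) i = i + k mod b` -/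
theorem finRotate_pow_val (b : ℕ) (k : ℕ) (i : Fin b) : ((finRotate b ^ k) i).val = (i.val + k) % b := by
  induction k with
  | zero => simp [Nat.mod_eq_of_lt i.isLt]
  | succ k ih =>
    rw [pow_succ', Perm.mul_apply, finRotate_val_mod, ih, Nat.add_mod, Nat.mod_mod, ← Nat.add_mod]
    rfl

theorem finRotate_pt (b : ℕ) (i : ℕ) (h : i + 1 < b) :
    finRotate b (pt i (by omega)) = pt (i + 1) h := by
  apply Fin.ext
  rw [finRotate_val b _ h]

theorem finRotate_pow_pt (b : ℕ) (k i : ℕ) (h : i + k < b) :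
    (finRotate b ^ k) (pt i (by omega)) = pt (i + k) h := by
  apply Fin.ext
  rw [finRotate_pow_val, Nat.mod_eq_of_lt h]

theorem pt_ne {b : ℕ} {i j : ℕ} (hi : i < b) (hj : j < b) (hij : i ≠ j) : (pt i hi : Fin b) ≠ pt j hj := by
  intro h
  exact hij (by simpa [pt] using congrArg Fin.val h)

/-- conjugating a swap by a power of the rotation -/
theorem rot_conj_swap (b : ℕ) (k : ℕ) (x y : Fin b) :
    finRotate b ^ k * swap x y * (finRotate b ^ k)⁻¹ = swap ((finRotate b ^ k) x) ((finRotate b ^ k) y) :=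
  (Equiv.swap_apply_apply _ x y).symm

end Cfsg.Agent.Lib.Helper14.AltFP
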