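import Cfsg.Agent.Lib.Helper14.AltFP.Defs

set_option autoImplicit false

namespace Cfsg.Agent.Lib.Helper14.AltFPLeaf

open Equiv Equiv.Perm Cfsg.Agent.Lib.Helper14.AltFP

theorem swap_commute_of_fix {α : Type*} [DecidableEq α] (κ : Perm α) (a b : α) (ha : κ a = a) (hb : κ b = b) :
    Commute (swap a b) κ := by
  have h := Equiv.swap_apply_apply κ a b
  rw [ha, hb] at h
  -- swap a b = κ * swap a b * κ⁻¹
  unfold Commute SemiconjBy
  calc swap a b * κ = (κ * swap a b * κ⁻¹) * κ := by rw [← h]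
    _ = κ * swap a b := by group

/-- (C2) the star trick -/
theorem star_abstract {α : Type*} [Fintype α] [DecidableEq α] (v₀ c : Perm α) (k : ℕ) (hk : Odd k)
    (hκ : (v₀ * c) ^ k = 1) (P Q : α) (hPQ : P ≠ Q)
    (hP : (v₀ * c) P = P) (hQ : (v₀ * c) Q = Q)
    (hP' : (v₀ * c) (v₀ P) = v₀ P) (hQ' : (v₀ * c) (v₀ Q) = v₀ Q)
    (h1 : v₀ P ≠ P) (h2 : v₀ P ≠ Q) (h3 : v₀ Q ≠ P) (h4 : v₀ Q ≠ Q) :
    (swap P Q * v₀ * (swap P Q)⁻¹).cycleType = v₀.cycleType ∧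
    swap P Q * swap (v₀ P) (v₀ Q) ∈
      Subgroup.closure ({swap P Q * v₀ * (swap P Q)⁻¹, c} : Set (Perm α)) ∧
    (swap P Q * v₀ * (swap P Q)⁻¹ * c) P = Q ∧ (swap P Q * v₀ * (swap P Q)⁻¹ * c) Q = P := by
  set κ := v₀ * c with hκdef
  set ρ := swap P Q * swap (v₀ P) (v₀ Q) with hρdef
  -- x = ρ κ
  have hx : swap P Q * v₀ * (swap P Q)⁻¹ * c = ρ * κ := by
    have h := Equiv.swap_apply_apply v₀ P Q
    rw [hρdef, hκdef, h, swap_inv]
    group
  -- commutation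
  have c1 : Commute (swap P Q) κ := swap_commute_of_fix κ P Q hP hQ
  have c2 : Commute (swap (v₀ P) (v₀ Q)) κ := swap_commute_of_fix κ _ _ hP' hQ'
  have c3 : Commute ρ κ := c1.mul_left c2
  -- the two swaps commute
  have c4 : Commute (swap P Q) (swap (v₀ P) (v₀ Q)) := by
    apply swap_commute_of_fix
    · exact swap_apply_of_ne_of_ne h1.symm h3.symm
    · exact swap_apply_of_ne_of_ne h2.symm h4.symm
  have hρ2 : ρ * ρ = 1 := by
    rw [hρdef]
    calc swap P Q * swap (v₀ P) (v₀ Q) * (swap P Q * swap (v₀ P) (v₀ Q))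
        = swap P Q * (swap (v₀ P) (v₀ Q) * swap P Q) * swap (v₀ P) (v₀ Q) := by group
      _ = swap P Q * (swap P Q * swap (v₀ P) (v₀ Q)) * swap (v₀ P) (v₀ Q) := by rw [c4.eq]
      _ = (swap P Q * swap P Q) * (swap (v₀ P) (v₀ Q) * swap (v₀ P) (v₀ Q)) := by group
      _ = 1 := by rw [swap_mul_self, swap_mul_self, one_mul]
  have hρk : ρ ^ k = ρ := by
    obtain ⟨m, rfl⟩ := hk
    rw [pow_succ, pow_mul, pow_two, hρ2, one_pow, one_mul]
  have hxk : (ρ * κ) ^ k = ρ := by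
    rw [c3.mul_pow, hκ, mul_one, hρk]
  refine ⟨?_, ?_, ?_, ?_⟩
  · exact cycleType_conj
  · rw [← hxk, ← hx]
    apply Subgroup.pow_mem
    apply Subgroup.mul_mem
    · exact Subgroup.subset_closure (by simp)
    · exact Subgroup.subset_closure (by simp)
  · rw [hx, Perm.mul_apply, hP, hρdef, Perm.mul_apply, swap_apply_of_ne_of_ne h1.symm h3.symm, swap_apply_left]
  · rw [hx, Perm.mul_apply, hQ, hρdef, Perm.mul_apply, swap_apply_of_ne_of_ne h2.symm h4.symm, swap_apply_right]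

end Cfsg.Agent.Lib.Helper14.AltFPLeaf
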