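import Cfsg.Agent.Lib.Helper14.AltFP.Rot
import Cfsg.Agent.Lib.Helper14.AltFP.Basic
import Cfsg.Agent.Lib.Helper23.AltFPC1
import Cfsg.Agent.Lib.Helper14.AltFP.Star
import Cfsg.Agent.Lib.Helper12.AltFPRot
import Cfsg.Agent.Lib.Helper18.AltFPM

/-! # S2276 leaf CEA1 `ce_A_core` (helper14) -/

set_option autoImplicit false

namespace Cfsg.Agent.Lib.Helper14.AltFPCE

open Equiv Equiv.Perm Cfsg.Agent.Lib.Helper14.AltFP

theorem ce_A_core (p : ℕ) (hp : p.Prime) (hp2 : p ≠ 2) (n : ℕ) (u : Perm (Fin n))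
    (hu : ∀ a ∈ u.cycleType, ∃ j : ℕ, 1 ≤ j ∧ a = p ^ j)
    (A : ℕ) (hA : A ∈ u.cycleType) (hAmax : ∀ a ∈ u.cycleType, a ≤ A) (hA5 : 5 ≤ A)
    (β : ℕ) (hAb : A ≤ p ^ β) (hbn : p ^ β ≤ n) :
    ∃ v : Perm (Fin (p ^ β)), v.cycleType ≤ u.cycleType ∧ (u.cycleType - v.cycleType).sum + p ^ β ≤ n ∧
      Good p v (finRotate (p ^ β)) := by
  have hpodd : Odd p := hp.odd_of_ne_two hp2
  have hsum : u.cycleType.sum ≤ n := by simpa using sum_cycleType_le u
  obtain ⟨μ, hμle, hAμ, hμsum, hrest⟩ := Cfsg.Agent.Lib.Helper18.AltFPLeaf.greedy p hp u.cycleType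
    (fun a ha => let ⟨j, _, h⟩ := hu a ha; ⟨j, h⟩) β (fun a ha => (hAmax a ha).trans hAb) A hA hAmax n hbn hsum
  generalize hbdef : p ^ β = b at *
  have hb5 : 5 ≤ b := hA5.trans hAb
  have hbodd : Odd b := by rw [← hbdef]; exact hpodd.pow
  have hμmem : ∀ a ∈ μ, ∃ j : ℕ, 1 ≤ j ∧ a = p ^ j := fun a ha => hu a (Multiset.mem_of_le hμle ha)
  have hμ2 : ∀ a ∈ μ, 2 ≤ a := fun a ha => two_le_of_mem_cycleType (Multiset.mem_of_le hμle ha)
  have hμodd : ∀ a ∈ μ, Odd a := by
    intro a ha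
    obtain ⟨j, _, rfl⟩ := hμmem a ha
    exact hpodd.pow
  have hcons : A ::ₘ μ.erase A = μ := Multiset.cons_erase hAμ
  have hesum : A + (μ.erase A).sum = μ.sum := by
    rw [← Multiset.sum_cons, hcons]
  set L : List ℕ := A :: ((μ.erase A).toList ++ List.replicate (b - μ.sum) 1) with hL
  have hLsum : L.sum = b := by
    rw [hL, List.sum_cons, List.sum_append, List.sum_replicate, Multiset.sum_toList]
    simp only [smul_eq_mul, mul_one]
    omega
  have hLmem : ∀ x ∈ L, x = A ∨ x ∈ μ.erase A ∨ x = 1 := by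
    intro x hx
    rw [hL, List.mem_cons, List.mem_append, Multiset.mem_toList] at hx
    rcases hx with h | h | h
    · exact Or.inl h
    · exact Or.inr (Or.inl h)
    · exact Or.inr (Or.inr (List.eq_of_mem_replicate h))
  have hLpos : ∀ x ∈ L, 0 < x := by
    intro x hx
    rcases hLmem x hx with h | h | h
    · omega
    · have := hμ2 x (Multiset.mem_of_mem_erase h); omega
    · omega
  have hLodd : ∀ x ∈ L, Odd x := by
    intro x hx
    rcases hLmem x hx with h | h | h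
    · rw [h]; exact hμodd A hAμ
    · exact hμodd x (Multiset.mem_of_mem_erase h)
    · rw [h]; exact odd_one
  have hk : Odd L.length := Cfsg.Agent.Lib.Helper18.AltFPLeaf.odd_length L hLodd (by rw [hLsum]; exact hbodd)
  obtain ⟨v₀, hcT, hκ, hfix⟩ := Cfsg.Agent.Lib.Helper23.AltFPLeaf.blockPerm L hLpos b hLsum
  -- cycle type of v₀
  have hcT' : v₀.cycleType = μ := by
    rw [hcT, hL, ← Multiset.cons_coe, ← Multiset.coe_add, Multiset.coe_toList, Multiset.filter_cons_of_pos _ (by omega : 2 ≤ A),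
      Multiset.filter_add]
    have h1 : Multiset.filter (fun x => 2 ≤ x) (μ.erase A) = μ.erase A :=
      Multiset.filter_eq_self.mpr (fun a ha => hμ2 a (Multiset.mem_of_mem_erase ha))
    have h2 : Multiset.filter (fun x => 2 ≤ x) ((List.replicate (b - μ.sum) 1 : List ℕ) : Multiset ℕ) = 0 := by
      rw [Multiset.filter_eq_nil]
      intro a ha
      rw [Multiset.mem_coe] at ha
      rw [List.eq_of_mem_replicate ha]; omega
    rw [h1, h2, add_zero, hcons]
  -- non-last points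
  have hnl : ∀ i : Fin b, i.val ≤ 3 → (v₀ * finRotate b) i = i := by
    intro i hi
    apply hfix
    intro m _
    cases m with
    | zero => simp
    | succ m =>
      rw [hL, List.take_succ_cons, List.sum_cons]
      omega
  have e0 := hnl (pt 0 (by omega)) (by simp)
  have e1 := hnl (pt 1 (by omega)) (by simp)
  have e2 := hnl (pt 2 (by omega)) (by simp)
  have e3 := hnl (pt 3 (by omega)) (by simp)
  have hv1 : v₀ (pt 1 (by omega)) = pt 0 (by omega) := by
    have := e0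
    rw [Perm.mul_apply, finRotate_pt b 0 (by omega)] at this
    exact this
  have hv3 : v₀ (pt 3 (by omega)) = pt 2 (by omega) := by
    have := e2
    rw [Perm.mul_apply, finRotate_pt b 2 (by omega)] at this
    exact this
  have hne : ∀ i j : ℕ, ∀ (hi : i < b) (hj : j < b), i ≠ j → (pt i hi : Fin b) ≠ pt j hj := by
    intro i j hi hj hij h
    exact hij (by simpa [pt] using congrArg Fin.val h)
  obtain ⟨s1, s2, s3, s4⟩ := Cfsg.Agent.Lib.Helper14.AltFPLeaf.star_abstract v₀ (finRotate b) L.length hk hκ (pt 1 (by omega)) (pt 3 (by omega))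
    (hne 1 3 _ _ (by omega)) e1 e3 (by rw [hv1]; exact e0) (by rw [hv3]; exact e2)
    (by rw [hv1]; exact hne 0 1 _ _ (by omega)) (by rw [hv1]; exact hne 0 3 _ _ (by omega))
    (by rw [hv3]; exact hne 2 1 _ _ (by omega)) (by rw [hv3]; exact hne 2 3 _ _ (by omega))
  rw [hv1, hv3] at s2
  refine ⟨swap (pt 1 (by omega)) (pt 3 (by omega)) * v₀ * (swap (pt 1 (by omega)) (pt 3 (by omega)))⁻¹, ?_, ?_, ?_, ?_⟩
  · rw [s1, hcT']; exact hμle
  · rw [s1, hcT']; exact hrest
  · apply Cfsg.Agent.Lib.Helper14.AltFPLeaf.not_ppow_of_two_cycle hp hp2 _ (pt 1 (by omega))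
    · rw [s3]; exact hne 3 1 _ _ (by omega)
    · rw [s3, s4]
  · exact Cfsg.Agent.Lib.Helper12.AltFPLeaf.ns_rot_A' b hb5 hbodd _ (Subgroup.subset_closure (by simp)) s2

end Cfsg.Agent.Lib.Helper14.AltFPCE
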