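import Cfsg.Agent.Lib.Helper14.AltFP.Rot
import Cfsg.Agent.Lib.Helper14.AltFP.Basic
import Cfsg.Agent.Lib.Helper23.AltFPC1
import Cfsg.Agent.Lib.Helper14.AltFP.Star
import Cfsg.Agent.Lib.Helper12.AltFPRot
import Cfsg.Agent.Lib.Helper18.AltFPM

/-! # S2276 leaf CEB2 `ce_B2` (helper14) -/

set_option autoImplicit false

namespace Cfsg.Agent.Lib.Helper14.AltFPCE

open Equiv Equiv.Perm Cfsg.Agent.Lib.Helper14.AltFP

/-- common bookkeeping: the long cycle `b` of `w` -/
theorem rot_le (n : ℕ) (w : Perm (Fin n)) (b : ℕ) (hb : b ∈ w.cycleType) :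
    b ≤ n ∧ (finRotate b).cycleType ≤ w.cycleType ∧
      (w.cycleType - (finRotate b).cycleType).sum + b ≤ n := by
  have hb2 : 2 ≤ b := two_le_of_mem_cycleType hb
  have h1 := Multiset.le_sum_of_mem hb
  have h2 := sum_cycleType_le w
  simp only [Fintype.card_fin] at h2
  have hc : (finRotate b).cycleType = {b} := cycleType_finRotate_of_le hb2
  have hcw : (finRotate b).cycleType ≤ w.cycleType := by
    rw [hc]; exact Multiset.singleton_le.mpr hb
  refine ⟨by omega, hcw, ?_⟩
  have h3 : (w.cycleType - (finRotate b).cycleType).sum + b = w.cycleType.sum := by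
    have := congrArg Multiset.sum (tsub_add_cancel_of_le hcw)
    rw [Multiset.sum_add, hc, Multiset.sum_singleton] at this
    rw [hc]; exact this
  omega

theorem ce_B2 (n : ℕ) (u w : Perm (Fin n)) (hu : ∀ a ∈ u.cycleType, a = 3)
    (hcard : 2 ≤ Multiset.card u.cycleType) (b : ℕ) (hb : b ∈ w.cycleType) (hb13 : 13 ≤ b) (hodd : Odd b)
    (h3 : 3 ∣ b) : HasCore 3 n u w := by
  obtain ⟨hbn, hcw, hsw⟩ := rot_le n w b hb
  set i := Multiset.card u.cycleType with hi
  have hucT : u.cycleType = Multiset.replicate i 3 := Multiset.eq_replicate.mpr ⟨rfl, hu⟩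
  have husum : 3 * i ≤ n := by
    have h2 := sum_cycleType_le u
    simp only [Fintype.card_fin] at h2
    rw [hucT, Multiset.sum_replicate, smul_eq_mul] at h2
    omega
  obtain ⟨q, hq⟩ := h3
  -- m = min i q, m ≥ 2
  obtain ⟨m, hm2, hmi, hmq, hmcase⟩ : ∃ m : ℕ, 2 ≤ m ∧ m ≤ i ∧ m ≤ q ∧ (m = i ∨ m = q) := by
    refine ⟨min i q, ?_, min_le_left _ _, min_le_right _ _, ?_⟩
    · apply le_min hcard; omega
    · rcases le_total i q with h | h
      · left; exact min_eq_left h
      · right; exact min_eq_right h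
  obtain ⟨m', rfl⟩ : ∃ m', m = m' + 2 := ⟨m - 2, by omega⟩
  set r := b - 3 * (m' + 2) with hr
  set L : List ℕ := List.replicate (m' + 2) 3 ++ List.replicate r 1 with hL
  have hL' : L = 3 :: 3 :: (List.replicate m' 3 ++ List.replicate r 1) := by
    rw [hL, List.replicate_succ, List.replicate_succ]; rfl
  have hLsum : L.sum = b := by
    rw [hL, List.sum_append, List.sum_replicate, List.sum_replicate]
    simp only [smul_eq_mul, mul_one]
    omega
  have hLmem : ∀ x ∈ L, x = 3 ∨ x = 1 := by
    intro x hx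
    rw [hL, List.mem_append] at hx
    rcases hx with h | h
    · exact Or.inl (List.eq_of_mem_replicate h)
    · exact Or.inr (List.eq_of_mem_replicate h)
  have hLpos : ∀ x ∈ L, 0 < x := by
    intro x hx; rcases hLmem x hx with h | h <;> omega
  have hLodd : ∀ x ∈ L, Odd x := by
    intro x hx; rcases hLmem x hx with h | h <;> rw [h] <;> decide
  have hk : Odd L.length := Cfsg.Agent.Lib.Helper18.AltFPLeaf.odd_length L hLodd (by rw [hLsum]; exact hodd)
  obtain ⟨v₀, hcT, hκ, hfix⟩ := Cfsg.Agent.Lib.Helper23.AltFPLeaf.blockPerm L hLpos b hLsum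
  have hcT' : v₀.cycleType = Multiset.replicate (m' + 2) 3 := by
    rw [hcT, hL, ← Multiset.coe_add, Multiset.filter_add]
    have h1 : Multiset.filter (fun x => 2 ≤ x) ((List.replicate (m' + 2) 3 : List ℕ) : Multiset ℕ) =
        ((List.replicate (m' + 2) 3 : List ℕ) : Multiset ℕ) := by
      rw [Multiset.filter_eq_self]
      intro a ha
      rw [Multiset.mem_coe] at ha
      rw [List.eq_of_mem_replicate ha]; omega
    have h2 : Multiset.filter (fun x => 2 ≤ x) ((List.replicate r 1 : List ℕ) : Multiset ℕ) = 0 := by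
      rw [Multiset.filter_eq_nil]
      intro a ha
      rw [Multiset.mem_coe] at ha
      rw [List.eq_of_mem_replicate ha]; omega
    rw [h1, h2, add_zero, Multiset.coe_replicate]
  -- non-last points 0, 1, 3, 4
  have hnl : ∀ j : Fin b, (j.val = 0 ∨ j.val = 1 ∨ j.val = 3 ∨ j.val = 4) → (v₀ * finRotate b) j = j := by
    intro j hj
    apply hfix
    intro t _
    rw [hL']
    match t with
    | 0 => simp
    | 1 => simp; omega
    | (t + 2) =>
      rw [List.take_succ_cons, List.take_succ_cons, List.sum_cons, List.sum_cons]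
      omega
  have e0 := hnl (pt 0 (by omega)) (by simp)
  have e1 := hnl (pt 1 (by omega)) (by simp)
  have e3 := hnl (pt 3 (by omega)) (by simp)
  have e4 := hnl (pt 4 (by omega)) (by simp)
  have hv1 : v₀ (pt 1 (by omega)) = pt 0 (by omega) := by
    have := e0
    rw [Perm.mul_apply, finRotate_pt b 0 (by omega)] at this
    exact this
  have hv4 : v₀ (pt 4 (by omega)) = pt 3 (by omega) := by
    have := e3
    rw [Perm.mul_apply, finRotate_pt b 3 (by omega)] at this
    exact this
  obtain ⟨s1, s2, s3, s4⟩ := Cfsg.Agent.Lib.Helper14.AltFPLeaf.star_abstract v₀ (finRotate b) L.length hk hκ (pt 1 (by omega)) (pt 4 (by omega))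
    (pt_ne _ _ (by omega)) e1 e4 (by rw [hv1]; exact e0) (by rw [hv4]; exact e3)
    (by rw [hv1]; exact pt_ne _ _ (by omega)) (by rw [hv1]; exact pt_ne _ _ (by omega))
    (by rw [hv4]; exact pt_ne _ _ (by omega)) (by rw [hv4]; exact pt_ne _ _ (by omega))
  rw [hv1, hv4] at s2
  refine ⟨b, hbn, swap (pt 1 (by omega)) (pt 4 (by omega)) * v₀ * (swap (pt 1 (by omega)) (pt 4 (by omega)))⁻¹,
    finRotate b, ?_, hcw, ?_, hsw, ⟨?_, ?_⟩, Or.inl ?_⟩
  · rw [s1, hcT', hucT]
    exact (Multiset.replicate_le_replicate 3).mpr hmi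
  · rw [s1, hcT']
    have hle : Multiset.replicate (m' + 2) 3 ≤ u.cycleType := by
      rw [hucT]; exact (Multiset.replicate_le_replicate 3).mpr hmi
    have := congrArg Multiset.sum (tsub_add_cancel_of_le hle)
    rw [Multiset.sum_add, Multiset.sum_replicate, smul_eq_mul] at this
    have h5 : u.cycleType.sum = i * 3 := by
      rw [hucT, Multiset.sum_replicate, smul_eq_mul]
    rcases hmcase with h | h <;> omega
  · apply Cfsg.Agent.Lib.Helper14.AltFPLeaf.not_ppow_of_two_cycle (by norm_num) (by norm_num) _ (pt 1 (by omega))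
    · rw [s3]; exact pt_ne _ _ (by omega)
    · rw [s3, s4]
  · exact Cfsg.Agent.Lib.Helper12.AltFPLeaf.ns_rot_B b hb13 _ (Subgroup.subset_closure (by simp)) s2
  · intro hcen
    have := (centralizer_le_alternating_iff.mp hcen).2.2 3
    rw [hucT, Multiset.count_replicate_self] at this
    omega

end Cfsg.Agent.Lib.Helper14.AltFPCE
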