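import Mathlib

/-!
# S2276 (alternating_p_elements_free_pair): shared definitions

`Good p U W`   : `U * W` does not have `p`-power order and `⟨U, W⟩` is not solvable.
`joinPerm h σ τ` : the permutation of `Fin n` acting as `σ` on the first `d` points and as `τ`
                   on the last `n - d` points.
`HasCore p n u w` : there is a "core" `(v, c)` on `Fin d`, `d ≤ n`, whose cycle types are sub-multisets
                   of those of `u`, `w`, leaving room for the other cycles on the remaining `n - d`
                   points, with `Good p v c`, plus a way of fixing the parity of the conjugating element.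
`pt i h`       : the point `⟨i, h⟩ : Fin b`.
-/

set_option autoImplicit false

namespace Cfsg.Agent.Lib.Helper14.AltFP

open Equiv Equiv.Perm

/-- the product does not have `p`-power order and the generated subgroup is not solvable -/
def Good (p : ℕ) {α : Type*} [Fintype α] [DecidableEq α] (U W : Perm α) : Prop :=
  (¬ ∃ k : ℕ, orderOf (U * W) = p ^ k) ∧
    ¬ Group.IsSolvable (Subgroup.closure ({U, W} : Set (Perm α)))

/-- the equivalence `Fin d ⊕ Fin (n - d) ≃ Fin n` -/
def joinEquiv {d n : ℕ} (h : d ≤ n) : Fin d ⊕ Fin (n - d) ≃ Fin n :=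
  finSumFinEquiv.trans (finCongr (Nat.add_sub_cancel' h))

/-- `σ` on the first `d` points, `τ` on the last `n - d` points -/
def joinPerm {d n : ℕ} (h : d ≤ n) (σ : Perm (Fin d)) (τ : Perm (Fin (n - d))) : Perm (Fin n) :=
  (joinEquiv h).permCongr (Equiv.sumCongr σ τ)

/-- the point `i` of `Fin b` -/
abbrev pt {b : ℕ} (i : ℕ) (h : i < b) : Fin b := ⟨i, h⟩

/-- core data for the pair `(u, w)` -/
def HasCore (p n : ℕ) (u w : Perm (Fin n)) : Prop :=
  ∃ (d : ℕ) (_ : d ≤ n) (v c : Perm (Fin d)),
    v.cycleType ≤ u.cycleType ∧ c.cycleType ≤ w.cycleType ∧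
    (u.cycleType - v.cycleType).sum + d ≤ n ∧ (w.cycleType - c.cycleType).sum + d ≤ n ∧
    Good p v c ∧
    (¬ Subgroup.centralizer {u} ≤ alternatingGroup (Fin n) ∨
     ¬ Subgroup.centralizer {w} ≤ alternatingGroup (Fin n) ∨ d + 2 ≤ n ∨
     ∃ t : Perm (Fin d), Perm.sign t = -1 ∧ Good p (t * v * t⁻¹) c)

end Cfsg.Agent.Lib.Helper14.AltFP
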