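import Cfsg.Agent.Lib.Helper14.AltFP.CEA
import Cfsg.Agent.Lib.Helper14.AltFP.CEB2
import Cfsg.Agent.Lib.Helper14.AltFP.Basic
import Cfsg.Agent.Lib.Helper8.AltFPFW
import Cfsg.Agent.Lib.Helper18.AltFPFW
import Cfsg.Agent.Lib.Helper8.AltFPG6
import Cfsg.Agent.Lib.Helper15.AltFPC78
import Cfsg.Agent.Lib.Helper15.AltFPC9
import Cfsg.Agent.Lib.Helper18.AltFPM
import Cfsg.Agent.Lib.Helper8.AltFPCEB0
import Cfsg.Agent.Lib.Helper12.AltFPCEB

/-! # S2276 final assembly (helper14): framework `fw`, case analysis, `main` = the frozen statement -/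

set_option autoImplicit false

namespace Cfsg.Agent.Lib.Helper14.AltFPFinal

open Equiv Equiv.Perm Cfsg.Agent.Lib.Helper14.AltFP

theorem finish {p n : ℕ} {u w U' W' a b : Perm (Fin n)} (ha : a * u * a⁻¹ = U') (hb : b * w * b⁻¹ = W')
    (hg : Good p U' W') (hs : Perm.sign a = Perm.sign b) :
    ∃ σ : Perm (Fin n), Perm.sign σ = 1 ∧ Good p u (σ * w * σ⁻¹) := by
  refine ⟨a⁻¹ * b, ?_, ?_⟩
  · rw [map_mul, map_inv, hs]; simp
  · have := Cfsg.Agent.Lib.Helper14.AltFPLeaf.good_conj (p := p) a⁻¹ hg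
    rw [← ha, ← hb] at this
    convert this using 1
    · group
    · group

theorem conj_joinPerm {d n : ℕ} (h : d ≤ n) (t σ : Perm (Fin d)) (s τ : Perm (Fin (n - d))) :
    joinPerm h t s * joinPerm h σ τ * (joinPerm h t s)⁻¹ = joinPerm h (t * σ * t⁻¹) (s * τ * s⁻¹) := by
  rw [Cfsg.Agent.Lib.Helper8.AltFPLeaf.joinPerm_inv, ← Cfsg.Agent.Lib.Helper8.AltFPLeaf.joinPerm_mul, ← Cfsg.Agent.Lib.Helper8.AltFPLeaf.joinPerm_mul]

theorem fw {p n : ℕ} (hp : p.Prime) {u w : Perm (Fin n)} (h : HasCore p n u w) :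
    ∃ σ : Perm (Fin n), Perm.sign σ = 1 ∧ Good p u (σ * w * σ⁻¹) := by
  obtain ⟨d, hd, v, c, hv, hc, hsu, hsw, hg, hpar⟩ := h
  obtain ⟨ru, hru⟩ := Cfsg.Agent.Lib.Helper18.AltFPLeaf.exists_rest (n - d) (u.cycleType - v.cycleType)
    (fun a ha => two_le_of_mem_cycleType (Multiset.mem_of_le (Multiset.sub_le_self _ _) ha)) (by omega)
  obtain ⟨rw, hrw⟩ := Cfsg.Agent.Lib.Helper18.AltFPLeaf.exists_rest (n - d) (w.cycleType - c.cycleType)
    (fun a ha => two_le_of_mem_cycleType (Multiset.mem_of_le (Multiset.sub_le_self _ _) ha)) (by omega)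
  have hU : IsConj u (joinPerm hd v ru) := by
    rw [isConj_iff_cycleType_eq, Cfsg.Agent.Lib.Helper18.AltFPLeaf.cycleType_joinPerm, hru, add_tsub_cancel_of_le hv]
  have hW : IsConj w (joinPerm hd c rw) := by
    rw [isConj_iff_cycleType_eq, Cfsg.Agent.Lib.Helper18.AltFPLeaf.cycleType_joinPerm, hrw, add_tsub_cancel_of_le hc]
  obtain ⟨a, ha⟩ := isConj_iff.mp hU
  obtain ⟨b, hb⟩ := isConj_iff.mp hW
  have hG : Good p (joinPerm hd v ru) (joinPerm hd c rw) := Cfsg.Agent.Lib.Helper8.AltFPLeaf.good_joinPerm hp hd v c ru rw hg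
  by_cases hs : Perm.sign a = Perm.sign b
  · exact finish ha hb hG hs
  · have hs' : Perm.sign a = - Perm.sign b := Int.units_ne_iff_eq_neg.mp hs
    rcases hpar with h1 | h1 | h1 | ⟨t, ht, hgt⟩
    · obtain ⟨z, hz, hzs⟩ := Cfsg.Agent.Lib.Helper18.AltFPLeaf.exists_odd_centralizer u h1
      refine finish (a := a * z) (b := b) ?_ hb hG ?_
      · have e1 : a * z * u * (a * z)⁻¹ = a * (z * u * z⁻¹) * a⁻¹ := by group
        rw [e1, hz, ha]
      · rw [map_mul, hzs, hs']; simp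
    · obtain ⟨z, hz, hzs⟩ := Cfsg.Agent.Lib.Helper18.AltFPLeaf.exists_odd_centralizer w h1
      refine finish (a := a) (b := b * z) ha ?_ hG ?_
      · have e1 : b * z * w * (b * z)⁻¹ = b * (z * w * z⁻¹) * b⁻¹ := by group
        rw [e1, hz, hb]
      · rw [map_mul, hzs, hs']; simp
    · obtain ⟨s, hs1⟩ := Cfsg.Agent.Lib.Helper18.AltFPLeaf.exists_odd (n - d) (by omega)
      refine finish (a := a) (b := joinPerm hd 1 s * b) (W' := joinPerm hd c (s * rw * s⁻¹)) ha ?_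
        (Cfsg.Agent.Lib.Helper8.AltFPLeaf.good_joinPerm hp hd v c ru _ hg) ?_
      · have := conj_joinPerm hd 1 c s rw
        rw [one_mul, inv_one, mul_one] at this
        rw [← this, ← hb]; group
      · rw [map_mul, Cfsg.Agent.Lib.Helper8.AltFPLeaf.sign_joinPerm, hs1, hs']; simp
    · refine finish (a := joinPerm hd t 1 * a) (b := b) (U' := joinPerm hd (t * v * t⁻¹) ru) ?_ hb
        (Cfsg.Agent.Lib.Helper8.AltFPLeaf.good_joinPerm hp hd _ c ru rw hgt) ?_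
      · have := conj_joinPerm hd t v 1 ru
        rw [one_mul, inv_one, mul_one] at this
        rw [← this, ← ha]; group
      · rw [map_mul, Cfsg.Agent.Lib.Helper8.AltFPLeaf.sign_joinPerm, ht, hs']; simp

/-- case A: `u` has a cycle of length `≥ 5`, and `w` has a cycle at least as long as all cycles of `u` -/
theorem ce_A (p : ℕ) (hp : p.Prime) (hp2 : p ≠ 2) (n : ℕ) (u w : Perm (Fin n))
    (hu : ∀ a ∈ u.cycleType, ∃ j : ℕ, 1 ≤ j ∧ a = p ^ j)
    (hw : ∀ a ∈ w.cycleType, ∃ j : ℕ, 1 ≤ j ∧ a = p ^ j)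
    (A : ℕ) (hA : A ∈ u.cycleType) (hAmax : ∀ a ∈ u.cycleType, a ≤ A) (hA5 : 5 ≤ A)
    (b : ℕ) (hb : b ∈ w.cycleType) (hAb : A ≤ b) :
    HasCore p n u w := by
  obtain ⟨β, hβ1, rfl⟩ := hw b hb
  have hbn : p ^ β ≤ n := by
    have h1 := Multiset.le_sum_of_mem hb
    have h2 := sum_cycleType_le w
    simp only [Fintype.card_fin] at h2
    omega
  have hc : (finRotate (p ^ β)).cycleType = {p ^ β} := cycleType_finRotate_of_le (by omega)
  have hcw : (finRotate (p ^ β)).cycleType ≤ w.cycleType := by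
    rw [hc]; exact Multiset.singleton_le.mpr hb
  have hsw : (w.cycleType - (finRotate (p ^ β)).cycleType).sum + p ^ β ≤ n := by
    have h2 := sum_cycleType_le w
    simp only [Fintype.card_fin] at h2
    have h3 : (w.cycleType - (finRotate (p ^ β)).cycleType).sum + p ^ β = w.cycleType.sum := by
      have := congrArg Multiset.sum (tsub_add_cancel_of_le hcw)
      rw [Multiset.sum_add, hc, Multiset.sum_singleton] at this
      rw [hc]; exact this
    omega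
  by_cases hpar : ¬ Subgroup.centralizer {u} ≤ alternatingGroup (Fin n) ∨
     ¬ Subgroup.centralizer {w} ≤ alternatingGroup (Fin n) ∨ p ^ β + 2 ≤ n
  · obtain ⟨v, hv1, hv2, hv3⟩ := Cfsg.Agent.Lib.Helper14.AltFPCE.ce_A_core p hp hp2 n u hu A hA hAmax hA5 β hAb hbn
    refine ⟨p ^ β, hbn, v, finRotate (p ^ β), hv1, hcw, hv2, hsw, hv3, ?_⟩
    rcases hpar with h | h | h
    · exact Or.inl h
    · exact Or.inr (Or.inl h)
    · exact Or.inr (Or.inr (Or.inl h))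
  · push Not at hpar
    obtain ⟨hcu, hcw', hn2⟩ := hpar
    have hucT : u.cycleType = {p ^ β} :=
      Cfsg.Agent.Lib.Helper18.AltFPLeaf.ce_A_par p hp hp2 n u hu β hβ1 (fun a ha => (hAmax a ha).trans hAb) hbn (by omega) hcu
    have hodd : Odd (p ^ β) := (hp.odd_of_ne_two hp2).pow
    have h5 : 5 ≤ p ^ β := hA5.trans hAb
    by_cases h7 : 7 ≤ p ^ β
    · obtain ⟨v, t, hv, ht, hg1, hg2⟩ := Cfsg.Agent.Lib.Helper15.AltFPLeaf.two_cores p hp hp2 (p ^ β) h7 hodd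
      refine ⟨p ^ β, hbn, v, finRotate (p ^ β), by rw [hv, hucT], hcw, ?_, hsw, hg1,
        Or.inr (Or.inr (Or.inr ⟨t, ht, hg2⟩))⟩
      rw [hv, hucT]; simpa using hbn
    · have h5' : p ^ β = 5 := by
        rcases hodd with ⟨k, hk⟩; omega
      have hp5 : p = 5 := by
        have : p ∣ 5 := by
          rw [← h5']; exact dvd_pow_self p (by omega)
        exact (Nat.prime_dvd_prime_iff_eq hp (by norm_num)).mp this
      subst hp5
      obtain ⟨v, t, hv, ht, hg1, hg2⟩ := Cfsg.Agent.Lib.Helper15.AltFPLeaf.five5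
      rw [h5'] at hbn hcw hsw hucT
      refine ⟨5, hbn, v, finRotate 5, by rw [hv, hucT], hcw, ?_, hsw, hg1,
        Or.inr (Or.inr (Or.inr ⟨t, ht, hg2⟩))⟩
      rw [hv, hucT]; simpa using hbn

/-- case B: `u` has order 3 -/
theorem ce_B (n : ℕ) (hn : 5 ≤ n) (u w : Perm (Fin n)) (hu1 : u ≠ 1)
    (hu : ∀ a ∈ u.cycleType, a = 3) (hw : ∀ a ∈ w.cycleType, ∃ j : ℕ, 1 ≤ j ∧ a = 3 ^ j)
    (b : ℕ) (hb : b ∈ w.cycleType) (hbmax : ∀ a ∈ w.cycleType, a ≤ b) :
    HasCore 3 n u w ∨ HasCore 3 n w u := by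
  have hw1 : w ≠ 1 := by
    intro h; rw [h, cycleType_one] at hb; simp at hb
  obtain ⟨j, hj1, rfl⟩ := hw b hb
  have hodd : Odd (3 ^ j) := (by decide : Odd 3).pow
  have hcard : 1 ≤ Multiset.card u.cycleType := card_cycleType_pos.mpr hu1
  rcases Nat.lt_or_ge j 2 with hj | hj
  · -- b = 3
    have hj' : j = 1 := by omega
    subst hj'
    refine Cfsg.Agent.Lib.Helper8.AltFPLeaf.ce_B0 n hn u w hu1 hw1 hu ?_
    intro a ha
    obtain ⟨i, hi1, rfl⟩ := hw a ha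
    have h1 := hbmax _ ha
    have h2 : 3 ^ 1 ≤ 3 ^ i := Nat.pow_le_pow_right (by norm_num) hi1
    omega
  · have h9 : 9 ≤ 3 ^ j := by
      calc 9 = 3 ^ 2 := by norm_num
        _ ≤ 3 ^ j := Nat.pow_le_pow_right (by norm_num) hj
    rcases Nat.lt_or_ge (Multiset.card u.cycleType) 2 with hc | hc
    · have hc1 : Multiset.card u.cycleType = 1 := by omega
      obtain ⟨a, ha⟩ := Multiset.card_eq_one.mp hc1
      have ha3 : a = 3 := hu a (by rw [ha]; exact Multiset.mem_singleton_self a)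
      subst ha3
      exact Or.inl (Cfsg.Agent.Lib.Helper12.AltFPLeaf.ce_B1_core 3 n hn u w ha (3 ^ j) hb (Cfsg.Agent.Lib.Helper15.AltFPLeaf.core_T1 3 (by norm_num) (by norm_num) (3 ^ j) (by omega) hodd))
    · rcases Nat.lt_or_ge j 3 with hj3 | hj3
      · have hj' : j = 2 := by omega
        subst hj'
        exact Or.inl (Cfsg.Agent.Lib.Helper12.AltFPLeaf.ce_B3 n u w hu hc (by simpa using hb))
      · have h27 : 27 ≤ 3 ^ j := by
          calc 27 = 3 ^ 3 := by norm_num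
            _ ≤ 3 ^ j := Nat.pow_le_pow_right (by norm_num) hj3
        exact Or.inl (Cfsg.Agent.Lib.Helper14.AltFPCE.ce_B2 n u w hu hc (3 ^ j) hb (by omega) hodd (dvd_pow_self 3 (by omega)))

theorem main_core_aux (p : ℕ) (hp : p.Prime) (hp2 : p ≠ 2) (n : ℕ) (hn : 5 ≤ n) (u w : Perm (Fin n))
    (hu1 : u ≠ 1)
    (hu : ∀ a ∈ u.cycleType, ∃ j : ℕ, 1 ≤ j ∧ a = p ^ j)
    (hw : ∀ a ∈ w.cycleType, ∃ j : ℕ, 1 ≤ j ∧ a = p ^ j)
    (A : ℕ) (hA : A ∈ u.cycleType) (hAmax : ∀ a ∈ u.cycleType, a ≤ A)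
    (b : ℕ) (hb : b ∈ w.cycleType) (hbmax : ∀ a ∈ w.cycleType, a ≤ b) (hAb : A ≤ b) :
    HasCore p n u w ∨ HasCore p n w u := by
  rcases Nat.lt_or_ge A 5 with h5 | h5
  · -- A = 3, p = 3
    obtain ⟨j, hj1, hAj⟩ := hu A hA
    have hp3 : 3 ≤ p := by
      have := hp.two_le
      omega
    have hpA : p ≤ A := by
      rw [hAj]
      calc p = p ^ 1 := (pow_one p).symm
        _ ≤ p ^ j := Nat.pow_le_pow_right (by omega) hj1
    have hpd : p ∣ A := by rw [hAj]; exact dvd_pow_self p (by omega)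
    have hp3' : p = 3 := by
      have h34 : A = 3 ∨ A = 4 := by omega
      rcases h34 with h | h
      · omega
      · exfalso
        rw [h] at hpd
        have : p ∣ 2 ^ 2 := by simpa using hpd
        have := (Nat.prime_dvd_prime_iff_eq hp Nat.prime_two).mp (hp.dvd_of_dvd_pow this)
        exact hp2 this
    subst hp3'
    have hA3 : A = 3 := by omega
    subst hA3
    refine ce_B n hn u w hu1 ?_ hw b hb hbmax
    intro a ha
    obtain ⟨i, hi1, rfl⟩ := hu a ha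
    have h1 := hAmax _ ha
    have h2 : 3 ^ 1 ≤ 3 ^ i := Nat.pow_le_pow_right (by norm_num) hi1
    omega
  · exact Or.inl (ce_A p hp hp2 n u w hu hw A hA hAmax h5 b hb hAb)

theorem main_core (p : ℕ) (hp : p.Prime) (hp2 : p ≠ 2) (n : ℕ) (hn : 5 ≤ n) (u w : Perm (Fin n))
    (hu1 : u ≠ 1) (hw1 : w ≠ 1) (hu : ∃ k : ℕ, orderOf u = p ^ k) (hw : ∃ k : ℕ, orderOf w = p ^ k) :
    HasCore p n u w ∨ HasCore p n w u := by
  have hu' := Cfsg.Agent.Lib.Helper18.AltFPLeaf.ppow_of_mem_cycleType hp u hu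
  have hw' := Cfsg.Agent.Lib.Helper18.AltFPLeaf.ppow_of_mem_cycleType hp w hw
  obtain ⟨A, hA, hAmax⟩ := Multiset.exists_max_image (s := u.cycleType) id (fun h => hu1 (cycleType_eq_zero.mp h))
  obtain ⟨b, hb, hbmax⟩ := Multiset.exists_max_image (s := w.cycleType) id (fun h => hw1 (cycleType_eq_zero.mp h))
  rcases le_total A b with h | h
  · exact main_core_aux p hp hp2 n hn u w hu1 hu' hw' A hA hAmax b hb hbmax h
  · exact (main_core_aux p hp hp2 n hn w u hw1 hw' hu' b hb hbmax A hA hAmax h).symm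

theorem main_perm (p : ℕ) (hp : p.Prime) (hp2 : p ≠ 2) (n : ℕ) (hn : 5 ≤ n) (u w : Perm (Fin n))
    (hu1 : u ≠ 1) (hw1 : w ≠ 1) (hu : ∃ k : ℕ, orderOf u = p ^ k) (hw : ∃ k : ℕ, orderOf w = p ^ k) :
    ∃ σ : Perm (Fin n), Perm.sign σ = 1 ∧ Good p u (σ * w * σ⁻¹) := by
  rcases main_core p hp hp2 n hn u w hu1 hw1 hu hw with h | h
  · exact fw hp h
  · obtain ⟨σ, hσ, hg⟩ := fw hp h
    refine ⟨σ⁻¹, by rw [map_inv, hσ, inv_one], ?_⟩
    have h1 := Cfsg.Agent.Lib.Helper14.AltFPLeaf.good_conj (p := p) σ⁻¹ hg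
    have h2 := Cfsg.Agent.Lib.Helper14.AltFPLeaf.good_symm h1
    convert h2 using 1
    group

theorem main (n : ℕ) (hn : 5 ≤ n) (p : ℕ) (hp : p.Prime) (hp3 : 3 ≤ p) (u w : alternatingGroup (Fin n))
    (hu : u ≠ 1) (hw : w ≠ 1)
    (hu' : ∃ k : ℕ, orderOf u = p ^ k) (hw' : ∃ k : ℕ, orderOf w = p ^ k) :
    ∃ g : alternatingGroup (Fin n), (¬ ∃ k : ℕ, orderOf (u * (g * w * g⁻¹)) = p ^ k) ∧
      ¬ Group.IsSolvable ↥(Subgroup.closure ({u, g * w * g⁻¹} : Set (alternatingGroup (Fin n)))) := by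
  apply Cfsg.Agent.Lib.Helper8.AltFPLeaf.alt_wrapper
  refine main_perm p hp (by omega) n hn (u : Perm (Fin n)) (w : Perm (Fin n)) ?_ ?_ ?_ ?_
  · intro h; exact hu (Subtype.ext h)
  · intro h; exact hw (Subtype.ext h)
  · simpa [Subgroup.orderOf_coe] using hu'
  · simpa [Subgroup.orderOf_coe] using hw'

end Cfsg.Agent.Lib.Helper14.AltFPFinal
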